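import Mathlib
import Cfsg.Prelude.Def_OddOrderLocal
import Cfsg.Agent.Lib.Transfer.CN.Structure

/-!
Groups in which every element centraliser is a TI-subset: they are CN-groups; a nontrivial Fitting
subgroup makes them nilpotent or Frobenius.
-/

set_option autoImplicit false
set_option linter.style.haveILetI false

open scoped Pointwise IsMulCommutative

universe u

namespace Cfsg.Agent.Transfer.TICent

open Cfsg.Agent Subgroup

variable {G : Type u} [Group G]

/-- Every element centraliser is a TI-subset. -/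
def TIC (G : Type*) [Group G] : Prop :=
  ∀ x : G, Cfsg.IsTISubset (Subgroup.centralizer ({x} : Set G) : Set G)

theorem TIC.mem_normalizer (h : TIC G) {x u g : G} (hu : u ≠ 1) (h1 : Commute u x)
    (h2 : Commute (g * u * g⁻¹) x) :
    g ∈ normalizer ((centralizer ({x} : Set G) : Subgroup G) : Set G) := by
  by_contra hn
  exact hu (h x g hn u (mem_centralizer_singleton_iff.2 h1.eq) (mem_centralizer_singleton_iff.2 h2.eq))

theorem TIC.of_injective (h : TIC G) {A : Type*} [Group A] (f : A →* G) (hf : Function.Injective f) : TIC A := by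
  intro x g hg u hu hgu
  by_contra hu1
  refine hg ?_
  have hc : ∀ y : A, y ∈ centralizer ({x} : Set A) ↔ f y ∈ centralizer ({f x} : Set G) := fun y => by
    simp only [mem_centralizer_singleton_iff, ← map_mul]
    exact hf.eq_iff.symm
  have hN := h.mem_normalizer (x := f x) (u := f u) (g := f g) (fun e => hu1 (hf (e.trans (map_one f).symm)))
    (mem_centralizer_singleton_iff.1 ((hc u).1 hu))
    (by
      have := mem_centralizer_singleton_iff.1 ((hc _).1 hgu)
      rwa [map_mul, map_mul, map_inv] at this)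
  refine mem_normalizer_iff.2 fun y => ?_
  rw [hc, hc, map_mul, map_mul, map_inv]
  exact mem_normalizer_iff.1 hN (f y)

theorem TIC.subgroup (h : TIC G) (X : Subgroup G) : TIC X := h.of_injective X.subtype X.subtype_injective

/-- A nontrivial centre makes every centraliser normal. -/
theorem TIC.conj_mem_of_center (h : TIC G) {z : G} (hz : z ≠ 1) (hzc : z ∈ center G) {x y : G} (g : G)
    (hy : Commute y x) : Commute (g * y * g⁻¹) x := by
  have hzc' : ∀ a, Commute z a := fun a => (mem_center_iff.1 hzc a).symm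
  have hg := h.mem_normalizer (x := x) (u := z) (g := g) hz (hzc' x) (by
    rw [(hzc' g).symm.eq, mul_inv_cancel_right]; exact hzc' x)
  exact mem_centralizer_singleton_iff.1
    ((mem_normalizer_iff.1 hg y).1 (mem_centralizer_singleton_iff.2 hy.eq))

theorem TIC.isNilpotent_of_center [Finite G] (h : TIC G) {z : G} (hz : z ≠ 1) (hzc : z ∈ center G) :
    Group.IsNilpotent G := by
  have hF : ∀ x : G, x ∈ Cfsg.fittingSubgroup G := by
    intro x
    have h1 : ∀ a b : G, Commute (a * x * a⁻¹) (b * x * b⁻¹) := fun a b => by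
      have := (h.conj_mem_of_center hz hzc (b⁻¹ * a) (Commute.refl x)).map (MulAut.conj b)
      simpa [mul_assoc] using this
    haveI : IsMulCommutative (normalClosure ({x} : Set G)) := by
      refine isMulCommutative_closure fun p hp q hq => ?_
      rw [Group.mem_conjugatesOfSet_iff] at hp hq
      obtain ⟨_, rfl, hp⟩ := hp
      obtain ⟨_, rfl, hq⟩ := hq
      obtain ⟨a, rfl⟩ := isConj_iff.1 hp
      obtain ⟨b, rfl⟩ := isConj_iff.1 hq
      exact (h1 a b).eq
    haveI : Group.IsNilpotent (normalClosure ({x} : Set G)) :=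
      CommGroup.isNilpotent (G := normalClosure ({x} : Set G))
    exact Grp.le_fittingSubgroup (N := normalClosure ({x} : Set G)) normalClosure_normal inferInstance
      (subset_normalClosure (Set.mem_singleton x))
  have := Grp.fittingSubgroup_isNilpotent (G := G)
  rw [show Cfsg.fittingSubgroup G = ⊤ from eq_top_iff.2 fun x _ => hF x] at this
  exact Group.nilpotent_of_mulEquiv Subgroup.topEquiv

theorem TIC.isCN [Finite G] (h : TIC G) : Cfsg.IsCNGroup G := fun g hg =>
  (h.subgroup (centralizer ({g} : Set G))).isNilpotent_of_center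
    (z := ⟨g, mem_centralizer_singleton_iff.2 rfl⟩) (fun e => hg (congrArg Subtype.val e))
    (mem_center_iff.2 fun y => Subtype.ext (mem_centralizer_singleton_iff.1 y.2))

/-- The kernel. -/
theorem TIC.kernel [Finite G] (h : TIC G) (hF : Cfsg.fittingSubgroup G ≠ ⊥) (hnn : ¬ Group.IsNilpotent G) :
    CN.Kernel (Cfsg.fittingSubgroup G) := by
  set F := Cfsg.fittingSubgroup G with hFdef
  haveI hFn : F.Normal := Grp.fittingSubgroup_isNormal
  haveI hFnil : Group.IsNilpotent F := Grp.fittingSubgroup_isNilpotent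
  set W := (center F).map F.subtype with hW
  haveI : W.Normal := inferInstance
  have hWF : W ≤ F := map_subtype_le _
  have hWc : ∀ w ∈ W, ∀ f ∈ F, Commute w f := by
    rintro _ ⟨w, hw, rfl⟩ f hf
    exact (congrArg Subtype.val (mem_center_iff.1 hw ⟨f, hf⟩)).symm
  have hW1 : W ≠ ⊥ := by
    intro e
    haveI : Nontrivial F := (nontrivial_iff_ne_bot F).2 hF
    rw [hW, map_eq_bot_iff_of_injective _ F.subtype_injective] at e
    exact Group.IsNilpotent.center_ne_bot (G := F) e
  have hCu : ∀ u ∈ W, u ≠ 1 → centralizer ({u} : Set G) ≤ F := by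
    intro u hu hu1
    refine Grp.le_fittingSubgroup ?_ (h.isCN u hu1)
    refine normalizer_eq_top_iff.1 (eq_top_iff.2 fun g _ => h.mem_normalizer hu1 (Commute.refl u) ?_)
    exact (hWc u hu _ (hFn.conj_mem u (hWF hu) g)).symm
  refine ⟨hFn, hFnil, hF, fun e => hnn ?_, fun x hx f hf hxf => ?_⟩
  · rw [e] at hFnil
    exact Group.nilpotent_of_mulEquiv Subgroup.topEquiv
  by_contra hf1
  obtain ⟨q, hq, y, ⟨i, hy⟩, hyx, hyF⟩ : ∃ r, r.Prime ∧ ∃ y, (∃ i, orderOf y = r ^ i) ∧
      y ∈ zpowers x ∧ y ∉ F := by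
    by_contra hne
    push Not at hne
    exact hx (Transfer.prime_parts x _ hne)
  haveI := Fact.mk hq
  have hyf : Commute y f := by
    obtain ⟨s, rfl⟩ := hyx
    exact hxf.zpow_left s
  obtain ⟨w, hwW, hw1⟩ := W.bot_or_exists_ne_one.resolve_left hW1
  obtain ⟨r, hr, hrw⟩ := Nat.exists_prime_and_dvd (fun e => hw1 (orderOf_eq_one_iff.1 e))
  set u := w ^ (orderOf w / r) with hu
  have hur : orderOf u = r := orderOf_pow_orderOf_div (orderOf_pos w).ne' hrw
  have huW : u ∈ W := pow_mem hwW _
  have hu1 : u ≠ 1 := fun e => hr.ne_one (by rw [← hur, e, orderOf_one])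
  by_cases hrq : r = q
  · subst hrq
    let W1 : Subgroup G :=
      { carrier := {a | a ∈ W ∧ a ^ r = 1}
        one_mem' := ⟨one_mem _, one_pow _⟩
        mul_mem' := fun {a b} ha hb => ⟨mul_mem ha.1 hb.1, by
          rw [(hWc a ha.1 b (hWF hb.1)).mul_pow, ha.2, hb.2, mul_one]⟩
        inv_mem' := fun {a} ha => ⟨inv_mem ha.1, by rw [inv_pow, ha.2, inv_one]⟩ }
    have hW1p : IsPGroup r W1 := fun a => ⟨1, Subtype.ext (by simpa using a.2.2)⟩
    haveI : W1.Normal := ⟨fun a ha g => ⟨(inferInstance : W.Normal).conj_mem a ha.1 g, by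
      rw [conj_pow, ha.2, mul_one, mul_inv_cancel]⟩⟩
    have hyp : IsPGroup r (zpowers y) := IsPGroup.of_card (n := i) (by rw [Nat.card_zpowers, hy])
    have hS : IsPGroup r ↥(W1 ⊔ zpowers y) := hW1p.to_sup_of_normal_left hyp
    obtain ⟨v, hv, hv1, hvc⟩ := CN.exists_center_mem hS.isNilpotent le_sup_left le_normalizer_of_normal
      (fun e => hu1 (by
        have : u ∈ W1 := ⟨huW, by rw [← hur]; exact pow_orderOf_eq_one u⟩
        rwa [e, mem_bot] at this))
    exact hyF (hCu v hv.1 hv1 (mem_centralizer_singleton_iff.2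
      (hvc y (mem_sup_right (mem_zpowers y))).symm.eq))
  · refine hyF (hCu u huW hu1 (mem_centralizer_singleton_iff.2 (CN.commute_of h.isCN hf1 hyf (hWc u huW f hf) ?_).eq))
    rw [hy, hur]
    exact ((Nat.coprime_primes hq hr).2 (Ne.symm hrq)).pow_left i

/-- Generalized quaternion groups of order at least 16 have a non-normal centraliser. -/
theorem quaternion_exponent {n : ℕ} (hn : 2 ≤ n) : ¬ TIC (QuaternionGroup (2 ^ n)) := by
  intro h
  haveI : NeZero (2 ^ n) := ⟨by positivity⟩
  have h4 : 4 ≤ 2 ^ n := le_trans (by norm_num) (Nat.pow_le_pow_right two_pos hn)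
  have hne : ∀ j : ℕ, 0 < j → j < 2 * 2 ^ n → ((j : ℕ) : ZMod (2 * 2 ^ n)) ≠ 0 := fun j h0 hj e => by
    rw [ZMod.natCast_eq_zero_iff] at e
    exact absurd (Nat.le_of_dvd h0 e) (not_le.2 hj)
  have hz : (QuaternionGroup.a ((2 ^ n : ℕ) : ZMod (2 * 2 ^ n))) ≠ 1 := by
    rw [QuaternionGroup.one_def]
    intro e
    exact hne _ (by omega) (by omega) (QuaternionGroup.a.inj e)
  have hzc : (QuaternionGroup.a ((2 ^ n : ℕ) : ZMod (2 * 2 ^ n))) ∈ center (QuaternionGroup (2 ^ n)) := by
    have h2 : ((2 ^ n : ℕ) : ZMod (2 * 2 ^ n)) + ((2 ^ n : ℕ) : ZMod (2 * 2 ^ n)) = 0 := by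
      rw [← Nat.cast_add, ← two_mul, ZMod.natCast_self]
    refine mem_center_iff.2 fun g => ?_
    rcases g with j | j <;> simp only [QuaternionGroup.a_mul_a, QuaternionGroup.a_mul_xa, QuaternionGroup.xa_mul_a]
    · rw [add_comm]
    · congr 1; linear_combination h2
  have hc := (h.conj_mem_of_center hz hzc (QuaternionGroup.a 1) (Commute.refl (QuaternionGroup.xa 0))).eq
  have hinv : (QuaternionGroup.a (1 : ZMod (2 * 2 ^ n)))⁻¹ = QuaternionGroup.a (-1) := rfl
  simp only [hinv, QuaternionGroup.a_mul_xa, QuaternionGroup.xa_mul_a, QuaternionGroup.xa_mul_xa,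
    QuaternionGroup.a.injEq] at hc
  refine hne 4 (by norm_num) (by omega) ?_
  push_cast
  linear_combination hc

/-- Frobenius complements of TI-centraliser groups. -/
theorem TIC.frobenius [Finite G] (h : TIC G) {N : Subgroup G} (hN : CN.Kernel N) :
    ∃ H : Subgroup G, Cfsg.IsFrobeniusComplement H ∧
      (IsCyclic H ∨ ∃ m : ℕ, Odd m ∧ Nonempty (H ≃* Multiplicative (ZMod m) × QuaternionGroup 2)) := by
  obtain ⟨E, -, -, hFC, -, hfpf⟩ := hN.exists_complement
  refine ⟨E, hFC, ?_⟩
  rcases CN.cyclic_or_quaternion (CN.isNilpotent_of_hasFpf (CN.subgroup h.isCN E) hfpf) hfpf with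
    hc | ⟨C, Q, hsup, hcomm, hC, hodd, n, ⟨e⟩⟩
  · exact Or.inl hc
  haveI : NeZero (2 ^ n) := ⟨by positivity⟩
  have hn : n ≤ 1 := by
    by_contra hn
    exact quaternion_exponent (n := n) (by omega) ((h.of_injective (E.subtype.comp Q.subtype)
      (E.subtype_injective.comp Q.subtype_injective)).of_injective e.symm.toMonoidHom e.symm.injective)
  have hcardQ : Nat.card Q = 4 * 2 ^ n := by
    rw [Nat.card_congr e.toEquiv, Nat.card_eq_fintype_card, QuaternionGroup.card]
  have hcop : (Nat.card C).Coprime (Nat.card Q) := by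
    rw [hcardQ, show 4 * 2 ^ n = 2 ^ (2 + n) by ring]
    exact (Nat.coprime_two_right.2 hodd).pow_right _
  let φ : C × Q →* E := MonoidHom.noncommCoprod C.subtype Q.subtype fun a b => hcomm a a.2 b b.2
  have hbij : Function.Bijective φ := by
    refine ⟨(injective_iff_map_eq_one φ).2 ?_, fun x => ?_⟩
    · rintro ⟨a, b⟩ hab
      have hab' : (a : E) * b = 1 := hab
      have hb : ((b : E))⁻¹ = a := (eq_inv_of_mul_eq_one_left hab').symm
      have ha1 := Subgroup.disjoint_def.1 (Subgroup.disjoint_of_coprime_natCard hcop) a.2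
        (by rw [← hb]; exact inv_mem b.2)
      rw [ha1, one_mul] at hab'
      exact Prod.ext (Subtype.ext ha1) (Subtype.ext hab')
    · have hx : x ∈ C ⊔ Q := hsup ▸ mem_top x
      have hle : C ⊔ Q ≤ φ.range := sup_le (fun a ha => ⟨(⟨a, ha⟩, 1), mul_one a⟩)
        fun b hb => ⟨(1, ⟨b, hb⟩), one_mul b⟩
      exact hle hx
  rcases Nat.lt_or_ge n 1 with h0 | h1
  · left
    obtain rfl : n = 0 := by omega
    haveI : IsCyclic (QuaternionGroup (2 ^ 0)) := by rw [pow_zero]; exact QuaternionGroup.quaternionGroup_one_isCyclic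
    haveI : IsCyclic Q := isCyclic_of_surjective e.symm e.symm.surjective
    haveI : IsCyclic (C × Q) := Group.isCyclic_prod_iff.2 ⟨inferInstance, inferInstance, hcop⟩
    exact isCyclic_of_surjective φ hbij.2
  · right
    obtain rfl : n = 1 := by omega
    refine ⟨Nat.card C, hodd, ⟨(MulEquiv.ofBijective φ hbij).symm.trans (MulEquiv.prodCongr ?_ e)⟩⟩
    exact (zmodCyclicMulEquiv hC).symm

end Cfsg.Agent.Transfer.TICent
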