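import Mathlib
import Cfsg.Agent.Lib.Fus.CTSimple
import Cfsg.Agent.Lib.Transfer.TICent.Basic

/-!
Groups with TI centralisers: the normaliser of a nilpotent involution centraliser is a point stabiliser
of a Zassenhaus group.
-/

set_option autoImplicit false
set_option linter.unusedSectionVars false
set_option linter.style.haveILetI false

namespace Cfsg.Agent.Transfer.TICent

open MulAction Subgroup Cfsg.Agent
open scoped Pointwise
open Cfsg.Agent.Fus.CTSimple (A M mem_A A_le_M)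

universe u

variable {G : Type u} [Group G] [Finite G]

/-- A nilpotent involution centraliser forming a TI-set with its normaliser. -/
structure Cfg (t : G) (S : Sylow 2 G) : Prop where
  ht : orderOf t = 2
  sle : (S : Subgroup G) ≤ A t
  nilA : Group.IsNilpotent (A t)
  tiA : ∀ g a, a ∈ A t → a ≠ 1 → g * a * g⁻¹ ∈ A t → g ∈ M t
  cent : ∀ a x, a ∈ A t → a ≠ 1 → Commute x a → x ∈ A t
  invZ : ∀ i, i ∈ A t → orderOf i = 2 → ∀ x, x ∈ A t → Commute x i
  ne_top : M t ≠ ⊤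
  one_lt : 1 < ((A t).subgroupOf (M t)).index

namespace Cfg

variable {t : G} {S : Sylow 2 G} (c : Cfg t S)
include c

theorem ht1 : t ≠ 1 := Invol.ne_one_of_orderOf_two c.ht

theorem t_mem : t ∈ A t := mem_A.mpr (Commute.refl t)

theorem conj_mem_A {m x : G} (hm : m ∈ M t) (hx : x ∈ A t) : m * x * m⁻¹ ∈ A t :=
  (mem_normalizer_iff.mp hm x).mp hx

theorem mem_M_of_inv {g i : G} (hi : i ∈ A t) (hi2 : orderOf i = 2) (hg : g * i * g⁻¹ ∈ A t) :
    g ∈ M t := c.tiA g i hi (Invol.ne_one_of_orderOf_two hi2) hg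

theorem mem_M_of_conj {g a : G} (ha : a ∈ A t) (ha1 : a ≠ 1) (hg : g * a * g⁻¹ ∈ A t) : g ∈ M t :=
  c.tiA g a ha ha1 hg

theorem mem_S {y : G} (hy : y ∈ normalizer ((S : Subgroup G) : Set G))
    (h2 : IsPGroup 2 (zpowers y)) : y ∈ (S : Subgroup G) := by
  have h := h2.to_sup_of_normal_right' S.isPGroup' (zpowers_le.mpr hy)
  exact (S.is_maximal' h le_sup_right).le (mem_sup_left (mem_zpowers y))

theorem A_le_normalizer_S : A t ≤ normalizer ((S : Subgroup G) : Set G) := by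
  intro a ha
  haveI := c.nilA
  haveI hn : ((S.subtype c.sle : Sylow 2 (A t)) : Subgroup (A t)).Normal := inferInstance
  rw [Sylow.coe_subtype] at hn
  exact mem_normalizer_fintype fun x hx => hn.conj_mem ⟨x, c.sle hx⟩ hx ⟨a, ha⟩

theorem conj_mem_S {m x : G} (hm : m ∈ M t) (hx : x ∈ (S : Subgroup G)) :
    m * x * m⁻¹ ∈ (S : Subgroup G) := by
  refine c.mem_S (c.A_le_normalizer_S (c.conj_mem_A hm (c.sle hx))) ?_
  have h := (S.isPGroup'.to_le (zpowers_le.mpr hx)).map (MulAut.conj m).toMonoidHom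
  rwa [MonoidHom.map_zpowers] at h

theorem M_le_normalizer_S : M t ≤ normalizer ((S : Subgroup G) : Set G) := fun m hm =>
  mem_normalizer_iff.mpr fun x => ⟨c.conj_mem_S hm, fun hx => by
    simpa [mul_assoc] using c.conj_mem_S (inv_mem hm) hx⟩

theorem inv_mem_A {i : G} (hi : i ∈ M t) (hi2 : orderOf i = 2) : i ∈ A t :=
  c.sle (c.mem_S (c.M_le_normalizer_S hi)
    (IsPGroup.of_card (n := 1) (by rw [Nat.card_zpowers, hi2, pow_one])))

theorem even_M : Even (Nat.card (M t)) := by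
  rw [even_iff_two_dvd, ← c.ht, ← orderOf_mk t (A_le_M c.t_mem)]
  exact orderOf_dvd_natCard _

theorem t_mem_S : t ∈ (S : Subgroup G) :=
  c.mem_S (c.A_le_normalizer_S c.t_mem)
    (IsPGroup.of_card (n := 1) (by rw [Nat.card_zpowers, c.ht, pow_one]))

theorem normalizer_S_le : normalizer ((S : Subgroup G) : Set G) ≤ M t := fun n hn =>
  c.mem_M_of_inv c.t_mem c.ht (c.sle ((mem_normalizer_iff.mp hn t).mp c.t_mem_S))

theorem se : Cfsg.IsStronglyEmbedded (M t) := by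
  have hne := c.ne_top
  rw [Invol.isStronglyEmbedded_iff hne c.even_M]
  intro i hi hi2 g hg
  have h2 : orderOf (g⁻¹ * i * g) = 2 := by
    rw [← hi2, ← Invol.orderOf_conj_eq g⁻¹ i, inv_inv]
  have h := c.mem_M_of_inv (g := g⁻¹) (c.inv_mem_A hi hi2) hi2
    (by rw [inv_inv]; exact c.inv_mem_A hg h2)
  exact inv_mem_iff.mp h

theorem prime_mem_A {m : G} (hm : m ∈ M t) {p : ℕ} [Fact p.Prime] (hp : p ∣ Nat.card (A t))
    (ho : orderOf m = p) : m ∈ A t := by
  let φ : zpowers m →* MulAut (A t) := (normalizerMonoidHom (A t)).comp (inclusion (zpowers_le.mpr hm))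
  letI : MulAction (zpowers m) (A t) := MulAction.compHom _ φ
  have hP : IsPGroup p (zpowers m) := IsPGroup.of_card (n := 1) (by rw [Nat.card_zpowers, ho, pow_one])
  obtain ⟨b, hb, hb1⟩ := hP.exists_fixed_point_of_prime_dvd_card_of_fixed_point (A t) hp
    (a := (1 : A t)) (fun g => map_one (φ g))
  have h := congrArg Subtype.val (hb ⟨m, mem_zpowers m⟩)
  change m * (b : G) * m⁻¹ = b at h
  exact c.cent _ _ b.2 (fun e => hb1 (Subtype.ext e.symm)) (mul_inv_eq_iff_eq_mul.mp h)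

theorem mem_A_of_not_coprime {m : G} (hm : m ∈ M t)
    (h : ¬ (orderOf m).Coprime (Nat.card (A t))) : m ∈ A t := by
  obtain ⟨p, hp, hpm, hpA⟩ := Nat.Prime.not_coprime_iff_dvd.mp h
  haveI := Fact.mk hp
  have ho : orderOf (m ^ (orderOf m / p)) = p := by
    rw [orderOf_pow_of_dvd (Nat.div_ne_zero_iff.mpr ⟨hp.ne_zero,
      Nat.le_of_dvd (orderOf_pos m) hpm⟩) (Nat.div_dvd_of_dvd hpm),
      Nat.div_div_self hpm (orderOf_pos m).ne']
  refine c.cent _ _ (c.prime_mem_A (pow_mem hm _) hpA ho) ?_ (Commute.self_pow m _)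
  intro e; rw [e, orderOf_one] at ho; exact hp.ne_one ho.symm

theorem mem_A_of_orderOf_dvd {m : G} (hm : m ∈ M t) (h : orderOf m ∣ Nat.card (A t)) : m ∈ A t := by
  by_cases h1 : orderOf m = 1
  · rw [orderOf_eq_one_iff.mp h1]; exact one_mem _
  · exact c.mem_A_of_not_coprime hm fun hc => h1 (Nat.eq_one_of_dvd_coprimes hc dvd_rfl h)

theorem coprime : (Nat.card (A t)).Coprime ((A t).subgroupOf (M t)).index := by
  refine Nat.coprime_of_dvd fun p hp hpA hpi => ?_
  haveI := Fact.mk hp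
  rw [index_eq_card] at hpi
  obtain ⟨q, hq⟩ := exists_prime_orderOf_dvd_card' (G := M t ⧸ (A t).subgroupOf (M t)) p hpi
  obtain ⟨m, rfl⟩ := QuotientGroup.mk_surjective q
  have hd : p ∣ orderOf (m : G) := by
    rw [orderOf_coe, ← hq]
    exact orderOf_map_dvd (QuotientGroup.mk' _) m
  have hmA := c.mem_A_of_not_coprime m.2 (Nat.Prime.not_coprime_iff_dvd.mpr ⟨p, hp, hd, hpA⟩)
  have h1 : (QuotientGroup.mk m : M t ⧸ (A t).subgroupOf (M t)) = 1 :=
    (QuotientGroup.eq_one_iff m).mpr hmA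
  rw [h1, orderOf_one] at hq
  exact hp.ne_one hq.symm

theorem fix {a g : G} (ha : a ∈ A t) (ha1 : a ≠ 1) (hm : g⁻¹ * a * g ∈ M t) : g ∈ M t := by
  have ho : orderOf (g⁻¹ * a * g) = orderOf a := by
    rw [← Invol.orderOf_conj_eq g⁻¹ a, inv_inv]
  have hA := c.mem_A_of_orderOf_dvd hm (by
    rw [ho, ← orderOf_mk a ha]; exact orderOf_dvd_natCard _)
  exact inv_mem_iff.mp (c.mem_M_of_conj (g := g⁻¹) ha ha1 (by rw [inv_inv]; exact hA))

theorem h_le_I :
    ((A t).subgroupOf (M t)).index ≤ Nat.card {i : G // orderOf i = 2 ∧ i ∈ M t} := by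
  rw [index_eq_card]
  refine Nat.card_le_card_of_injective
    (fun q => (⟨(q.out : G) * t * (q.out : G)⁻¹, by rw [Invol.orderOf_conj_eq, c.ht],
      A_le_M (c.conj_mem_A q.out.2 c.t_mem)⟩ : {i : G // orderOf i = 2 ∧ i ∈ M t})) ?_
  intro q r e
  have e' : (q.out : G) * t * (q.out : G)⁻¹ = (r.out : G) * t * (r.out : G)⁻¹ :=
    congrArg Subtype.val e
  rw [← QuotientGroup.out_eq' q, ← QuotientGroup.out_eq' r, QuotientGroup.eq]
  show (q.out : G)⁻¹ * (r.out : G) ∈ A t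
  refine mem_A.mpr ?_
  calc (q.out : G)⁻¹ * (r.out : G) * t
      = (q.out : G)⁻¹ * ((r.out : G) * t * (r.out : G)⁻¹) * (r.out : G) := by group
    _ = (q.out : G)⁻¹ * ((q.out : G) * t * (q.out : G)⁻¹) * (r.out : G) := by rw [e']
    _ = t * ((q.out : G)⁻¹ * (r.out : G)) := by group

/-- The base point. -/
abbrev x0 (t : G) : G ⧸ M t := ((1 : G) : G ⧸ M t)

/-- A two-point stabiliser. -/
abbrev P (t : G) (x y : G ⧸ M t) : Subgroup G := stabilizer G x ⊓ stabilizer G y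

omit c in
omit [Finite G] in
theorem smul_x0_iff {g : G} : g • x0 t = x0 t ↔ g ∈ M t := by
  rw [Invol.smul_coset_eq_iff, inv_one, one_mul, mul_one]

omit c in
omit [Finite G] in
theorem stab_x0 : stabilizer G (x0 t) = M t := by
  ext g; exact smul_x0_iff

theorem fix_A {a : G} (ha : a ∈ A t) (ha1 : a ≠ 1) {y : G ⧸ M t} (hy : a • y = y) : y = x0 t := by
  obtain ⟨g, rfl⟩ := QuotientGroup.mk_surjective y
  rw [QuotientGroup.eq, mul_one]
  exact inv_mem (c.fix (g := g) ha ha1 (Invol.smul_coset_eq_iff.mp hy))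

theorem P0_inter_A {y : G ⧸ M t} (hy : y ≠ x0 t) {d : G} (hd : d ∈ P t (x0 t) y) (hA : d ∈ A t) :
    d = 1 :=
  by_contra fun h => hy (c.fix_A hA h hd.2)

/-- The two-point stabiliser maps into the quotient of the point stabiliser by the centraliser. -/
theorem P0_toQuot_injective {y : G ⧸ M t} (hy : y ≠ x0 t) :
    Function.Injective fun d : P t (x0 t) y =>
      (QuotientGroup.mk ⟨(d : G), smul_x0_iff.mp d.2.1⟩ : M t ⧸ (A t).subgroupOf (M t)) := by
  intro d e h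
  have h' := QuotientGroup.eq.mp h
  have h1 := c.P0_inter_A hy (mul_mem (inv_mem d.2) e.2) h'
  exact Subtype.ext (inv_mul_eq_one.mp h1)

theorem card_P0_le {y : G ⧸ M t} (hy : y ≠ x0 t) :
    Nat.card (P t (x0 t) y) ≤ ((A t).subgroupOf (M t)).index := by
  rw [index_eq_card]
  exact Nat.card_le_card_of_injective _ (c.P0_toQuot_injective hy)

theorem I_pos : 0 < Nat.card {i : G // orderOf i = 2 ∧ i ∈ M t} :=
  lt_of_lt_of_le (lt_trans zero_lt_one c.one_lt) c.h_le_I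

theorem exists_swap {x y : G ⧸ M t} (hxy : x ≠ y) :
    ∃ w : G, orderOf w = 2 ∧ w • x = y ∧ w • y = x := by
  have h := Invol.card_swap_eq (c.se) x y hxy
  obtain ⟨⟨w, hw, hwx⟩⟩ := (Nat.card_pos_iff.mp (h ▸ c.I_pos)).1
  refine ⟨w, hw, hwx, ?_⟩
  rw [← hwx, smul_smul, Invol.mul_self_of_orderOf_two hw, one_smul]

/-- All equalities at the base point. -/
theorem base {y : G ⧸ M t} (hy : y ≠ x0 t) :
    Nat.card (P t (x0 t) y) = ((A t).subgroupOf (M t)).index ∧
      Nat.card {i : G // orderOf i = 2 ∧ i ∈ M t} = ((A t).subgroupOf (M t)).index ∧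
      ∀ w : G, w • x0 t = y → w • y = x0 t → orderOf w = 2 := by
  obtain ⟨u, hu, hux, huy⟩ := c.exists_swap hy.symm
  have hswap : ∀ i : {i : G // orderOf i = 2 ∧ i • x0 t = y}, u * (i : G) ∈ P t (x0 t) y := by
    rintro ⟨i, hi, hix⟩
    refine ⟨?_, ?_⟩ <;> show (u * i) • _ = _
    · rw [mul_smul, hix, huy]
    · have hiy : i • y = x0 t := by
        rw [← hix, smul_smul, Invol.mul_self_of_orderOf_two hi, one_smul]
      rw [mul_smul, hiy, hux]
  let f : {i : G // orderOf i = 2 ∧ i • x0 t = y} → P t (x0 t) y := fun i => ⟨_, hswap i⟩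
  have hf : Function.Injective f := fun i j e =>
    Subtype.ext (mul_left_cancel (congrArg Subtype.val e))
  have h1 := Nat.card_le_card_of_injective f hf
  have h2 := Invol.card_swap_eq (c.se) (x0 t) y hy.symm
  have h3 := c.card_P0_le hy
  have h4 := c.h_le_I
  refine ⟨by omega, by omega, fun w hwx hwy => ?_⟩
  have hb := (Nat.bijective_iff_injective_and_card f).mpr ⟨hf, by omega⟩
  obtain ⟨i, hi⟩ := hb.2 ⟨u * w, by
    refine ⟨?_, ?_⟩ <;> show (u * w) • _ = _
    · rw [mul_smul, hwx, huy]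
    · rw [mul_smul, hwy, hux]⟩
  have e : (i : G) = w := mul_left_cancel (congrArg Subtype.val hi)
  exact e ▸ i.2.1

theorem swap_invol {x y : G ⧸ M t} (hxy : x ≠ y) {w : G} (hwx : w • x = y) (hwy : w • y = x) :
    orderOf w = 2 := by
  obtain ⟨g, hg⟩ := exists_smul_eq G x (x0 t)
  have hy : g • y ≠ x0 t := fun e => hxy (MulAction.injective g (hg.trans e.symm))
  have hgx : g⁻¹ • x0 t = x := inv_smul_eq_iff.mpr hg.symm
  have h := (c.base hy).2.2 (g * w * g⁻¹) (by rw [mul_smul, mul_smul, hgx, hwx])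
    (by rw [mul_smul, mul_smul, inv_smul_smul, hwy, hg])
  rwa [Invol.orderOf_conj_eq] at h

/-- Interchanging elements invert the two-point stabiliser. -/
theorem inverts {x y : G ⧸ M t} (hxy : x ≠ y) {w d : G} (hwx : w • x = y) (hwy : w • y = x)
    (hd : d ∈ P t x y) : w * d * w⁻¹ = d⁻¹ := by
  have hdx : d • x = x := hd.1
  have hdy : d • y = y := hd.2
  have hw := c.swap_invol hxy hwx hwy
  have hwd := c.swap_invol hxy (w := w * d) (by rw [mul_smul, hdx, hwx]) (by rw [mul_smul, hdy, hwy])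
  rw [Invol.inv_of_orderOf_two hw]
  exact eq_inv_of_mul_eq_one_left (by
    rw [mul_assoc]; exact Invol.mul_self_of_orderOf_two hwd)

theorem P_comm {x y : G ⧸ M t} (hxy : x ≠ y) {d e : G} (hd : d ∈ P t x y) (he : e ∈ P t x y) :
    Commute d e := by
  obtain ⟨w, -, hwx, hwy⟩ := c.exists_swap hxy
  have h1 := c.inverts hxy hwx hwy (mul_mem hd he)
  rw [← conj_mul, c.inverts hxy hwx hwy hd, c.inverts hxy hwx hwy he, ← mul_inv_rev] at h1
  exact (inv_injective h1).symm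

theorem ne_two {x y : G ⧸ M t} (hxy : x ≠ y) {d : G} (hd : d ∈ P t x y) : orderOf d ≠ 2 := by
  intro hd2
  obtain ⟨g, hg⟩ := exists_smul_eq G x (x0 t)
  have hgx : g⁻¹ • x0 t = x := inv_smul_eq_iff.mpr hg.symm
  have hdx : d • x = x := hd.1
  have hdy : d • y = y := hd.2
  have h2 : orderOf (g * d * g⁻¹) = 2 := by rw [Invol.orderOf_conj_eq, hd2]
  have hM : g * d * g⁻¹ ∈ M t := smul_x0_iff.mp (by rw [mul_smul, mul_smul, hgx, hdx, hg])
  have h := c.fix_A (c.inv_mem_A hM h2) (Invol.ne_one_of_orderOf_two h2) (y := g • y)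
    (by rw [mul_smul, mul_smul, inv_smul_smul, hdy])
  exact hxy (MulAction.injective g (hg.trans h.symm))

theorem decompose {y : G ⧸ M t} (hy : y ≠ x0 t) {m : G} (hm : m ∈ M t) :
    ∃ d ∈ P t (x0 t) y, d⁻¹ * m ∈ A t := by
  have hb := (Nat.bijective_iff_injective_and_card _).mpr ⟨c.P0_toQuot_injective hy, by
    rw [← index_eq_card]; exact (c.base hy).1⟩
  obtain ⟨d, hd⟩ := hb.2 (QuotientGroup.mk ⟨m, hm⟩)
  simp only [QuotientGroup.eq] at hd
  exact ⟨d, d.2, hd⟩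

/-- Only the identity fixes three points. -/
theorem free3_base {g : G} {y z : G ⧸ M t} (hy : y ≠ x0 t) (hz : z ≠ x0 t) (hyz : y ≠ z)
    (hx : g • x0 t = x0 t) (hgy : g • y = y) (hgz : g • z = z) : g = 1 := by
  by_contra hg1
  obtain ⟨u, -, huz, huy⟩ := c.exists_swap hyz.symm
  obtain ⟨v, -, hvx, hvz⟩ := c.exists_swap hz.symm
  obtain ⟨w, -, hwx, hwy⟩ := c.exists_swap hy.symm
  have hiu := c.inverts hyz.symm huz huy ⟨hgz, hgy⟩
  have hiv := c.inverts hz.symm hvx hvz ⟨hx, hgz⟩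
  have hiw := c.inverts hy.symm hwx hwy ⟨hx, hgy⟩
  set k := u * v with hk
  have hkx : k • x0 t = y := by rw [hk, mul_smul, hvx, huz]
  have hkg : k * g * k⁻¹ = g := by
    calc k * g * k⁻¹ = u * (v * g * v⁻¹) * u⁻¹ := by rw [hk]; group
      _ = (u * g * u⁻¹)⁻¹ := by rw [hiv]; group
      _ = g := by rw [hiu, inv_inv]
  set e := k⁻¹ * w with he
  have hex : e ∈ M t := smul_x0_iff.mp (by rw [he, mul_smul, hwx, inv_smul_eq_iff, hkx])
  have heg : e * g * e⁻¹ = g⁻¹ := by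
    have hkg' : k⁻¹ * g⁻¹ * k = g⁻¹ := by
      calc k⁻¹ * g⁻¹ * k = k⁻¹ * (k * g * k⁻¹)⁻¹ * k := by rw [hkg]
        _ = g⁻¹ := by group
    calc e * g * e⁻¹ = k⁻¹ * (w * g * w⁻¹) * k := by rw [he]; group
      _ = g⁻¹ := by rw [hiw, hkg']
  obtain ⟨d, hd, hda⟩ := c.decompose hy hex
  have hdg : Commute d g := c.P_comm hy.symm hd ⟨hx, hgy⟩
  set a := d⁻¹ * e with ha
  have hag : a * g * a⁻¹ = g⁻¹ := by
    calc a * g * a⁻¹ = d⁻¹ * (e * g * e⁻¹) * d := by rw [ha]; group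
      _ = g⁻¹ := by rw [heg, mul_assoc, (hdg.inv_right.symm).eq, inv_mul_cancel_left]
  have hmem : a * (g * a⁻¹ * g⁻¹) ∈ A t :=
    mul_mem hda (c.conj_mem_A (smul_x0_iff.mp hx) (inv_mem hda))
  rw [show a * (g * a⁻¹ * g⁻¹) = a * g * a⁻¹ * g⁻¹ by group, hag] at hmem
  have hP : g⁻¹ * g⁻¹ ∈ P t (x0 t) y :=
    mul_mem (inv_mem (show g ∈ P t (x0 t) y from ⟨hx, hgy⟩)) (inv_mem ⟨hx, hgy⟩)
  have h1 := c.P0_inter_A hy hP hmem
  rw [← mul_inv_rev, inv_eq_one] at h1
  exact c.ne_two hy.symm ⟨hx, hgy⟩ (Invol.orderOf_two_iff.mpr ⟨h1, hg1⟩)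

theorem free3 (g : G) (x y z : G ⧸ M t) (hxy : x ≠ y) (hyz : y ≠ z) (hxz : x ≠ z)
    (hx : g • x = x) (hy : g • y = y) (hz : g • z = z) : g = 1 := by
  obtain ⟨k, hk⟩ := exists_smul_eq G x (x0 t)
  have hkx : k⁻¹ • x0 t = x := inv_smul_eq_iff.mpr hk.symm
  have h := c.free3_base (g := k * g * k⁻¹) (y := k • y) (z := k • z)
    (fun e => hxy (MulAction.injective k (hk.trans e.symm)))
    (fun e => hxz (MulAction.injective k (hk.trans e.symm)))
    (fun e => hyz (MulAction.injective k e))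
    (by rw [mul_smul, mul_smul, hkx, hx, hk]) (by rw [mul_smul, mul_smul, inv_smul_smul, hy])
    (by rw [mul_smul, mul_smul, inv_smul_smul, hz])
  exact conj_eq_one_iff.mp h

theorem exists_ne : ∃ y : G ⧸ M t, y ≠ x0 t := by
  by_contra h
  push Not at h
  exact c.ne_top (eq_top_iff.mpr fun g _ => smul_x0_iff.mp (h _))

theorem exists_P_ne_one {y : G ⧸ M t} (hy : y ≠ x0 t) : ∃ d ∈ P t (x0 t) y, d ≠ 1 := by
  by_contra h
  push Not at h
  have hb : P t (x0 t) y = ⊥ := (eq_bot_iff_forall _).mpr h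
  have := (c.base hy).1
  have h1 := c.one_lt
  rw [hb, card_bot] at this
  omega

theorem coprime' : (Nat.card (A t)).Coprime ((A t).subgroupOf (M t)).index := c.coprime

/-- The centraliser is transitive on the points other than the base point. -/
theorem A_trans {y z : G ⧸ M t} (hy : y ≠ x0 t) (hz : z ≠ x0 t) : ∃ a ∈ A t, a • y = z := by
  have hle : ∀ {y : G ⧸ M t}, P t (x0 t) y ≤ M t := fun {y} => inf_le_left.trans stab_x0.le
  have hn : ∀ {y : G ⧸ M t}, P t (x0 t) y ≤ normalizer ((A t : Subgroup G) : Set G) := fun {y} => hle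
  have hcard : ∀ {y : G ⧸ M t}, y ≠ x0 t →
      Nat.card (P t (x0 t) y) = ((A t).subgroupOf (M t)).index := fun {y} hy => (c.base hy).1
  have hcov : P t (x0 t) z ≤ A t ⊔ P t (x0 t) y := by
    intro m hm
    obtain ⟨d, hd, hda⟩ := c.decompose hy (hle hm)
    rw [show m = d * (d⁻¹ * m) by group]
    exact mul_mem (mem_sup_right hd) (mem_sup_left hda)
  haveI := c.nilA
  obtain ⟨a, ha, hconj⟩ := Grp.exists_conj_of_le_sup hn hcov ((hcard hz).trans (hcard hy).symm)
    (by rw [hcard hy]; exact c.coprime) (Or.inl inferInstance)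
  obtain ⟨d, hd, hd1⟩ := c.exists_P_ne_one hy
  refine ⟨a, ha, ?_⟩
  have hmem : a * d * a⁻¹ ∈ P t (x0 t) z := by
    rw [← hconj]
    exact Subgroup.smul_mem_pointwise_smul d (MulAut.conj a) _ hd
  have hay : a • y ≠ x0 t := fun e =>
    hy (MulAction.injective a (e.trans (smul_x0_iff.mpr (A_le_M ha)).symm))
  by_contra hne
  refine hd1 (conj_eq_one_iff.mp (c.free3 _ (x0 t) (a • y) z hay.symm hne hz.symm hmem.1 ?_ hmem.2))
  rw [mul_smul, mul_smul, inv_smul_smul, show d • y = y from hd.2]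

theorem A_reg {y z : G ⧸ M t} (hy : y ≠ x0 t) (hz : z ≠ x0 t) :
    ∃! a : A t, (a : G) • y = z := by
  obtain ⟨a, ha, hay⟩ := c.A_trans hy hz
  refine ⟨⟨a, ha⟩, hay, fun b hb => Subtype.ext ?_⟩
  by_contra hne
  refine hy (c.fix_A (mul_mem (inv_mem ha) b.2) (fun e => hne (inv_mul_eq_one.mp e).symm) ?_)
  rw [mul_smul, hb, inv_smul_eq_iff, hay]

theorem two_trans : IsMultiplyPretransitive G (G ⧸ M t) 2 := by
  refine is_two_pretransitive_iff.mpr fun {x y z w} hxy hzw => ?_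
  obtain ⟨g, hg⟩ := exists_smul_eq G x (x0 t)
  obtain ⟨k, hk⟩ := exists_smul_eq G z (x0 t)
  obtain ⟨a, ha, hay⟩ := c.A_trans (y := g • y) (z := k • w)
    (fun e => hxy (MulAction.injective g (hg.trans e.symm)))
    (fun e => hzw (MulAction.injective k (hk.trans e.symm)))
  refine ⟨k⁻¹ * a * g, ?_, ?_⟩ <;> rw [mul_smul, mul_smul, inv_smul_eq_iff]
  · rw [hg, smul_x0_iff.mpr (A_le_M ha), hk]
  · exact hay

theorem card_points : Nat.card (G ⧸ M t) = Nat.card (A t) + 1 := by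
  classical
  obtain ⟨y, hy⟩ := c.exists_ne
  have hne : ∀ a : A t, (a : G) • y ≠ x0 t := fun a e =>
    hy (MulAction.injective (a : G) (e.trans (smul_x0_iff.mpr (A_le_M a.2)).symm))
  have hb : Function.Bijective (fun a : A t => (⟨(a : G) • y, hne a⟩ : {z : G ⧸ M t // z ≠ x0 t})) := by
    refine ⟨fun a b e => ?_, fun z => ?_⟩
    · obtain ⟨r, -, hu⟩ := c.A_reg hy (hne a)
      exact (hu a rfl).trans (hu b (congrArg Subtype.val e).symm).symm
    · obtain ⟨a, ha, -⟩ := c.A_reg hy z.2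
      exact ⟨a, Subtype.ext ha⟩
  rw [Nat.card_congr (Equiv.ofBijective _ hb), ← Finite.card_option,
    Nat.card_congr (Equiv.optionSubtypeNe (x0 t))]

theorem two_dvd_card_A : 2 ∣ Nat.card (A t) := by
  rw [← c.ht, ← orderOf_mk t c.t_mem]; exact orderOf_dvd_natCard _

theorem fix_all {g : G} (h : ∀ x : G ⧸ M t, g • x = x) : g = 1 := by
  by_contra hg
  obtain ⟨y, hy⟩ := c.exists_ne
  have hcard : 3 ≤ Nat.card (G ⧸ M t) := by
    rw [c.card_points]
    have := Nat.le_of_dvd Nat.card_pos c.two_dvd_card_A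
    omega
  classical
  haveI := Fintype.ofFinite (G ⧸ M t)
  obtain ⟨z, -, hz⟩ := Finset.exists_mem_notMem_of_card_lt_card (s := ({x0 t, y} : Finset (G ⧸ M t)))
    (t := Finset.univ) (by rw [Finset.card_pair hy.symm, Finset.card_univ, ← Nat.card_eq_fintype_card]; omega)
  simp only [Finset.mem_insert, Finset.mem_singleton, not_or] at hz
  exact hg (c.free3 g (x0 t) y z hy.symm (Ne.symm hz.2) (Ne.symm hz.1) (h _) (h _) (h _))

theorem faithful : FaithfulSMul G (G ⧸ M t) := by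
  refine ⟨fun {g k} hgk => inv_mul_eq_one.mp (c.fix_all (g := g⁻¹ * k) fun x => ?_)⟩
  rw [mul_smul, ← hgk x, inv_smul_smul]

theorem zassenhaus : Cfsg.IsZassenhausGroup G (G ⧸ M t) := by
  obtain ⟨y, hy⟩ := c.exists_ne
  obtain ⟨d, hd, hd1⟩ := c.exists_P_ne_one hy
  refine ⟨c.faithful, c.two_trans, c.free3, ⟨d, hd1, x0 t, y, hy.symm, hd.1, hd.2⟩, fun N hN hT => ?_⟩
  by_contra hcon
  push Not at hcon
  have hb := hcon (x0 t)
  -- the involution inverts the regular normal subgroup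
  have hNM : ∀ n ∈ N, n ∈ M t → n = 1 := fun n hn hm =>
    congrArg Subtype.val ((eq_bot_iff_forall _).mp hb ⟨n, hn⟩ (smul_x0_iff.mpr hm))
  have hinv : ∀ i, i ∈ A t → orderOf i = 2 → ∀ n ∈ N, i * n * i⁻¹ = n⁻¹ := by
    intro i hi hi2
    have hii : i⁻¹ = i := Invol.inv_of_orderOf_two hi2
    let f : N → N := fun n => ⟨(n : G)⁻¹ * (i * n * i⁻¹), mul_mem (inv_mem n.2) (hN.conj_mem _ n.2 i)⟩
    have hf : Function.Injective f := by
      intro n m e
      have e' : (n : G)⁻¹ * (i * n * i⁻¹) = (m : G)⁻¹ * (i * m * i⁻¹) := congrArg Subtype.val e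
      have hc : Commute ((m : G) * (n : G)⁻¹) i := by
        show (m : G) * (n : G)⁻¹ * i = i * ((m : G) * (n : G)⁻¹)
        calc (m : G) * (n : G)⁻¹ * i = (m : G) * ((n : G)⁻¹ * (i * n * i⁻¹)) * (i * (n : G)⁻¹) := by
              group
          _ = (m : G) * ((m : G)⁻¹ * (i * m * i⁻¹)) * (i * (n : G)⁻¹) := by rw [e']
          _ = i * ((m : G) * (n : G)⁻¹) := by group
      exact Subtype.ext (mul_inv_eq_one.mp (hNM _ (mul_mem m.2 (inv_mem n.2))
        (A_le_M (c.cent i _ hi (Invol.ne_one_of_orderOf_two hi2) hc)))).symm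
    intro n hn
    obtain ⟨m, hm⟩ := (Finite.injective_iff_surjective.mp hf) ⟨n, hn⟩
    have hm' : (m : G)⁻¹ * (i * m * i⁻¹) = n := congrArg Subtype.val hm
    rw [← hm']
    calc i * ((m : G)⁻¹ * (i * m * i⁻¹)) * i⁻¹ = i * (m : G)⁻¹ * (i * m) * (i * i)⁻¹ := by group
      _ = i * (m : G)⁻¹ * (i * m) := by
        rw [Invol.mul_self_of_orderOf_two hi2, inv_one, mul_one]
      _ = ((m : G)⁻¹ * (i * m * i⁻¹))⁻¹ := by simp only [mul_inv_rev, inv_inv, hii, mul_assoc]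
  have hmem : d * t * d⁻¹ ∈ A t := c.conj_mem_A (smul_x0_iff.mp hd.1) c.t_mem
  set a := t * (d * t * d⁻¹) with ha
  have hfix : ∀ z : G ⧸ M t, a • z = z := by
    intro z
    obtain ⟨n, rfl⟩ := hT.exists_smul_eq (x0 t) z
    show a • ((n : G) • x0 t) = (n : G) • x0 t
    have hc : a * (n : G) * a⁻¹ = n := by
      calc a * (n : G) * a⁻¹ = t * (d * t * d⁻¹ * n * (d * t * d⁻¹)⁻¹) * t⁻¹ := by rw [ha]; group
        _ = (t * n * t⁻¹)⁻¹ := by
          rw [hinv _ hmem (by rw [Invol.orderOf_conj_eq, c.ht]) _ n.2]; group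
        _ = n := by rw [hinv t c.t_mem c.ht _ n.2, inv_inv]
    rw [← mul_smul, mul_inv_eq_iff_eq_mul.mp hc, mul_smul,
      smul_x0_iff.mpr (A_le_M (mul_mem c.t_mem hmem))]
  have h1 := c.fix_all hfix
  rw [ha] at h1
  have hdt : d * t * d⁻¹ = t :=
    (eq_inv_of_mul_eq_one_right h1).trans (Invol.inv_of_orderOf_two c.ht)
  exact hd1 (c.P0_inter_A hy hd (mem_A.mpr (mul_inv_eq_iff_eq_mul.mp hdt)))

theorem h_odd : Odd ((A t).subgroupOf (M t)).index := by
  obtain ⟨y, hy⟩ := c.exists_ne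
  rw [← (c.base hy).1, ← Nat.not_even_iff_odd, even_iff_two_dvd]
  intro h
  obtain ⟨d, hd⟩ := exists_prime_orderOf_dvd_card' (G := P t (x0 t) y) 2 h
  exact c.ne_two hy.symm d.2 ((orderOf_coe d).trans hd)

theorem card_G : Nat.card G =
    (Nat.card (A t) + 1) * (Nat.card (A t) * ((A t).subgroupOf (M t)).index) := by
  rw [← c.card_points, ← Subgroup.index_eq_card,
    ← Nat.card_congr (subgroupOfEquivOfLe (A_le_M (t := t))).toEquiv, Subgroup.card_mul_index,
    mul_comm, Subgroup.card_mul_index]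

end Cfg

end Cfsg.Agent.Transfer.TICent
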