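import Mathlib
import Cfsg.Agent.S0204
import Cfsg.Agent.S0346
import Cfsg.Agent.S0347
import Cfsg.Agent.Lib.Fus.CTSimpleLinear
import Cfsg.Agent.Lib.Classical.DicksonFacts
import Cfsg.Agent.Lib.Transfer.TICent.Config

/-!
Groups with TI centralisers and trivial Fitting subgroup are `PSL(2, 2^n)`.
-/

set_option autoImplicit false
set_option linter.unusedSectionVars false
set_option linter.style.haveILetI false

open scoped Pointwise

universe u

namespace Cfsg.Agent.Transfer.TICent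

open Cfsg.Agent Subgroup
open Cfsg.Agent.Fus.CTSimple (A M mem_A A_le_M)

variable {G : Type u} [Group G] [Finite G]

/-- The configuration at a central involution. -/
theorem TIC.cfg (h : TIC G) (hF : Cfsg.fittingSubgroup G = ⊥) {t : G} (S : Sylow 2 G) (ht : orderOf t = 2)
    (hS : ∀ s ∈ (S : Subgroup G), Commute s t) {i j : G} (hi : orderOf i = 2) (hj : orderOf j = 2)
    (hij : Commute i j) (hne : i ≠ j) : Cfg t S := by
  have ht1 := Invol.ne_one_of_orderOf_two ht
  have sle : (S : Subgroup G) ≤ A t := fun s hs => mem_A.mpr (hS s hs)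
  have nilA : Group.IsNilpotent (A t) := h.isCN t ht1
  have hnA : ∀ a ∈ A t, a ∈ normalizer ((S : Subgroup G) : Set G) := by
    intro a ha
    haveI := nilA
    haveI hn : ((S.subtype sle : Sylow 2 (A t)) : Subgroup (A t)).Normal := inferInstance
    rw [Sylow.coe_subtype] at hn
    exact mem_normalizer_fintype fun x hx => hn.conj_mem ⟨x, sle hx⟩ hx ⟨a, ha⟩
  have hmemS : ∀ y, y ∈ normalizer ((S : Subgroup G) : Set G) → IsPGroup 2 (zpowers y) → y ∈ (S : Subgroup G) :=
    fun y hy h2 => (S.is_maximal' (h2.to_sup_of_normal_right' S.isPGroup' (zpowers_le.mpr hy)) le_sup_right).le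
      (mem_sup_left (mem_zpowers y))
  have tiA : ∀ g a, a ∈ A t → a ≠ 1 → g * a * g⁻¹ ∈ A t → g ∈ M t := fun g a ha ha1 hg =>
    h.mem_normalizer ha1 (mem_A.mp ha) (mem_A.mp hg)
  have conjA : ∀ {m x : G}, m ∈ M t → x ∈ A t → m * x * m⁻¹ ∈ A t := fun hm hx =>
    (mem_normalizer_iff.mp hm _).mp hx
  have htwoS : ∀ m, m ∈ M t → IsPGroup 2 (zpowers m) → m ∈ (S : Subgroup G) := by
    intro m hm h2
    refine hmemS m (mem_normalizer_fintype fun x hx => hmemS _ (hnA _ (conjA hm (sle hx))) ?_) h2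
    have h' := (S.isPGroup'.to_le (zpowers_le.mpr hx)).map (MulAut.conj m).toMonoidHom
    rwa [MonoidHom.map_zpowers] at h'
  have cent : ∀ a x, a ∈ A t → a ≠ 1 → Commute x a → x ∈ A t := by
    intro a x ha ha1 hxa
    have hxM : x ∈ M t := tiA x a ha ha1 (by rwa [hxa.eq, mul_inv_cancel_right])
    refine Transfer.prime_parts x _ fun r hr y ⟨k, hy⟩ hyx => ?_
    by_cases h2 : r = 2
    · subst h2
      exact sle (htwoS y ((zpowers_le.mpr hxM) hyx) (IsPGroup.of_card (n := k) (by rw [Nat.card_zpowers, hy])))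
    · have hya : Commute y a := by
        obtain ⟨s, rfl⟩ := hyx
        exact hxa.zpow_left s
      refine mem_A.mpr (CN.commute_of h.isCN ha1 hya (mem_A.mp ha).symm ?_)
      rw [hy, ht]
      exact ((Nat.coprime_primes hr Nat.prime_two).2 h2).pow_left k
  have hAtop : M t ≠ ⊤ := by
    intro e
    haveI : (A t).Normal := normalizer_eq_top_iff.mp e
    have h1 := Grp.le_fittingSubgroup (N := A t) inferInstance nilA (mem_A.mpr (Commute.refl t))
    rw [hF, mem_bot] at h1
    exact ht1 h1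
  have heven : Even (Nat.card (M t)) :=
    Invol.even_card_of_mem ht (A_le_M (mem_A.mpr (Commute.refl t)))
  have hinA : ∀ i ∈ M t, orderOf i = 2 → i ∈ A t := fun i hi hi2 =>
    sle (htwoS i hi (IsPGroup.of_card (n := 1) (by rw [Nat.card_zpowers, hi2, pow_one])))
  have se : Cfsg.IsStronglyEmbedded (M t) := by
    rw [Invol.isStronglyEmbedded_iff hAtop heven]
    intro i hi hi2 g hg
    have h2 : orderOf (g⁻¹ * i * g) = 2 := by
      rw [← hi2, ← Invol.orderOf_conj_eq g⁻¹ i, inv_inv]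
    exact inv_mem_iff.mp (tiA g⁻¹ i (hinA i hi hi2) (Invol.ne_one_of_orderOf_two hi2)
      (by rw [inv_inv]; exact hinA _ hg h2))
  have hclass : ∀ k, k ∈ A t → orderOf k = 2 → ∃ m ∈ M t, m * t * m⁻¹ = k := by
    intro k hk hk2
    obtain ⟨g, hg⟩ := isConj_iff.mp (Invol.isConj_involutions se ht hk2)
    exact ⟨g, tiA g t (mem_A.mpr (Commute.refl t)) ht1 (hg ▸ hk), hg⟩
  have invZ : ∀ k, k ∈ A t → orderOf k = 2 → ∀ x, x ∈ A t → Commute x k := by
    intro k hk hk2 x hx
    obtain ⟨m, hm, rfl⟩ := hclass k hk hk2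
    have h1 := (mem_A.mp (conjA (inv_mem hm) hx)).map (MulAut.conj m)
    simpa [mul_assoc] using h1
  refine ⟨ht, sle, nilA, tiA, cent, invZ, hAtop, ?_⟩
  by_contra hcon
  have h1 : ((A t).subgroupOf (M t)).index = 1 :=
    le_antisymm (not_lt.mp hcon) (Nat.one_le_iff_ne_zero.mpr index_ne_zero_of_finite)
  have hone : ∀ k, k ∈ A t → orderOf k = 2 → k = t := by
    intro k hk hk2
    obtain ⟨m, hm, rfl⟩ := hclass k hk hk2
    have hmA : m ∈ A t := (index_eq_one.mp h1).ge (mem_top ⟨m, hm⟩)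
    rw [(mem_A.mp hmA).eq, mul_inv_cancel_right]
  obtain ⟨g, hg⟩ := isConj_iff.mp (Invol.isConj_involutions se hi ht)
  refine hne ?_
  have hc : Commute (g * j * g⁻¹) t := by
    rw [← hg]
    simpa using hij.symm.map (MulAut.conj g)
  have h2 := hone _ (mem_A.mpr hc) (by rw [Invol.orderOf_conj_eq, hj])
  exact ((mul_right_inj g).mp ((mul_left_inj g⁻¹).mp (hg.trans h2.symm)))

/-- Involutions of the centraliser are conjugate under a two-point stabiliser. -/
theorem Cfg.exists_conj {t : G} {S : Sylow 2 G} (c : Cfg t S) {y : G ⧸ M t} (hy : y ≠ Cfg.x0 t) {k : G}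
    (hk : k ∈ A t) (hk2 : orderOf k = 2) : ∃ d ∈ Cfg.P t (Cfg.x0 t) y, d * t * d⁻¹ = k := by
  obtain ⟨g, hg⟩ := isConj_iff.mp (Invol.isConj_involutions c.se c.ht hk2)
  have hgM := c.tiA g t c.t_mem c.ht1 (hg ▸ hk)
  obtain ⟨d, hd, hda⟩ := c.decompose hy hgM
  refine ⟨d, hd, ?_⟩
  calc d * t * d⁻¹ = d * ((d⁻¹ * g) * t * (d⁻¹ * g)⁻¹) * d⁻¹ := by
        rw [(mem_A.mp hda).eq, mul_inv_cancel_right]
    _ = k := by rw [← hg]; group

/-- In a simple group the centraliser of the involution is abelian. -/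
theorem Cfg.comm_of_simple (h : TIC G) [IsSimpleGroup G] {t : G} {S : Sylow 2 G} (c : Cfg t S) :
    ∀ x ∈ A t, ∀ y ∈ A t, Commute x y := by
  classical
  by_contra hna
  push Not at hna
  obtain ⟨x₁, hx₁, x₂, hx₂, hx₁₂⟩ := hna
  haveI := Fintype.ofFinite (G ⧸ M t)
  -- the centraliser is a 2-group
  have hpp := S0346.result (G := G) (Ω := G ⧸ M t) c.zassenhaus
  rw [← Nat.card_eq_fintype_card, c.card_points, Nat.add_sub_cancel] at hpp
  obtain ⟨p, k, hp, hk0, hpk⟩ := (isPrimePow_nat_iff _).mp hpp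
  have h2n := c.two_dvd_card_A
  rw [← hpk] at h2n
  obtain rfl : p = 2 :=
    ((Nat.prime_dvd_prime_iff_eq Nat.prime_two hp).mp (Nat.prime_two.dvd_of_dvd_pow h2n)).symm
  have hA2 : IsPGroup 2 (A t) := IsPGroup.of_card (n := k) hpk.symm
  have hn : ((A t).subgroupOf (MulAction.stabilizer G (Cfg.x0 t))).Normal := by
    rw [Cfg.stab_x0]; exact Subgroup.normal_in_normalizer
  obtain ⟨-, m, -, hm⟩ := S0347.result c.zassenhaus (Cfg.x0 t) (A t) (Cfg.stab_x0.ge.trans' A_le_M) hn hA2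
    ⟨⟨x₁, hx₁⟩, ⟨x₂, hx₂⟩, fun e => hx₁₂ (congrArg Subtype.val e)⟩ (fun y z hy hz => c.A_reg hy hz)
  obtain ⟨y₀, hy₀⟩ := c.exists_ne
  set I := {i : G // orderOf i = 2 ∧ i ∈ M t}
  have hI : Nat.card I = ((A t).subgroupOf (M t)).index := (c.base hy₀).2.1
  have hodd := c.h_odd
  rw [c.card_G, ← hpk] at hm
  set Q := 2 ^ (2 * m + 1) with hQdef
  set hh := ((A t).subgroupOf (M t)).index
  have hQ2 : 2 ≤ Q := by
    rw [hQdef]
    exact Nat.le_self_pow (by omega) 2
  have hQe : Even Q := by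
    rw [hQdef]
    exact (Nat.even_pow).mpr ⟨even_two, by omega⟩
  have hcop1 : Nat.Coprime (Q ^ 2) ((2 ^ k + 1) * hh) := by
    rw [hQdef, ← pow_mul]
    refine (Nat.coprime_two_left.mpr ?_).pow_left _
    exact ((Nat.even_pow.mpr ⟨even_two, by omega⟩).add_one).mul hodd
  have hcop2 : Nat.Coprime (2 ^ k) ((Q ^ 2 + 1) * (Q - 1)) := by
    refine (Nat.coprime_two_left.mpr ?_).pow_left _
    refine ((hQe.pow_of_ne_zero two_ne_zero).add_one).mul ?_
    obtain ⟨w, hw⟩ := hQe
    exact ⟨w - 1, by omega⟩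
  have hnQ : 2 ^ k = Q ^ 2 := by
    refine Nat.dvd_antisymm ?_ ?_
    · refine hcop2.dvd_of_dvd_mul_right (Dvd.intro ((2 ^ k + 1) * hh) ?_)
      rw [mul_assoc] at hm
      linarith
    · refine hcop1.dvd_of_dvd_mul_right (Dvd.intro ((Q ^ 2 + 1) * (Q - 1)) ?_)
      linarith
  have hh' : hh + 1 = Q := by
    rw [hnQ] at hm
    have h1 : hh = Q - 1 := Nat.eq_of_mul_eq_mul_left (show 0 < Q ^ 2 * (Q ^ 2 + 1) by positivity) (by linarith)
    omega
  -- an element of order four
  obtain ⟨y, hyA, hy4⟩ : ∃ y ∈ A t, orderOf y = 4 := by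
    by_contra hne
    push Not at hne
    have hsq : ∀ a ∈ A t, a * a = 1 := by
      intro a ha
      obtain ⟨e, he⟩ := IsPGroup.iff_orderOf.mp hA2 ⟨a, ha⟩
      rw [orderOf_mk] at he
      rcases Nat.lt_or_ge e 2 with h' | h'
      · rw [← pow_two]
        exact orderOf_dvd_iff_pow_eq_one.mp (he ▸ pow_dvd_pow 2 (by omega : e ≤ 1))
      · exfalso
        refine hne (a ^ 2 ^ (e - 2)) (pow_mem ha _) ?_
        rw [orderOf_pow_of_dvd (by positivity) (he ▸ pow_dvd_pow 2 (Nat.sub_le _ _)), he,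
          Nat.pow_div (Nat.sub_le _ _) two_pos, show e - (e - 2) = 2 by omega]
        norm_num
    refine hx₁₂ ?_
    have e1 := hsq _ (mul_mem hx₁ hx₂)
    have a1 := inv_eq_of_mul_eq_one_right (hsq _ hx₁)
    have a2 := inv_eq_of_mul_eq_one_right (hsq _ hx₂)
    show x₁ * x₂ = x₂ * x₁
    calc x₁ * x₂ = (x₁ * x₂)⁻¹ := (inv_eq_of_mul_eq_one_right e1).symm
      _ = x₂ * x₁ := by rw [mul_inv_rev, a1, a2]
  have hy1 : y ≠ 1 := fun e => by rw [e, orderOf_one] at hy4; omega
  set v := y * y with hv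
  have hv2 : orderOf v = 2 := by
    rw [hv, ← pow_two, orderOf_pow_of_dvd two_ne_zero (hy4 ▸ (by norm_num)), hy4]
  have hvA : v ∈ A t := mul_mem hyA hyA
  set Z := {a : G // a ∈ A t ∧ a * a = 1}
  have hZ : Nat.card Z = hh + 1 := by
    rw [← hI, ← Finite.card_option]
    let f : Option I → Z := fun o => o.elim ⟨1, one_mem _, one_mul 1⟩
      fun i => ⟨i.1, c.inv_mem_A i.2.2 i.2.1, Invol.mul_self_of_orderOf_two i.2.1⟩
    refine (Nat.card_congr (Equiv.ofBijective f ⟨?_, fun z => ?_⟩)).symm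
    · rintro (_ | i) (_ | j) e <;> replace e := congrArg Subtype.val e
      · rfl
      · exact absurd (show (j : G) = 1 from e.symm) (Invol.ne_one_of_orderOf_two j.2.1)
      · exact absurd (show (i : G) = 1 from e) (Invol.ne_one_of_orderOf_two i.2.1)
      · exact congrArg some (Subtype.ext e)
    · by_cases hz : z.1 = 1
      · exact ⟨none, Subtype.ext hz.symm⟩
      · exact ⟨some ⟨z.1, Invol.orderOf_two_iff.mpr ⟨z.2.2, hz⟩, A_le_M z.2.1⟩, rfl⟩
  set P := Cfg.P t (Cfg.x0 t) y₀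
  have hPM : ∀ d ∈ P, d ∈ M t := fun d hd => Cfg.smul_x0_iff.mp hd.1
  have hconjy : ∀ d ∈ P, Commute (d * y * d⁻¹) y := by
    intro d hd
    have hg := h.mem_normalizer (x := y) (g := d) c.ht1 (mem_A.mp hyA).symm
      (c.invZ _ (c.conj_mem_A (hPM d hd) c.t_mem) (by rw [Invol.orderOf_conj_eq, c.ht]) y hyA).symm
    exact mem_centralizer_singleton_iff.1
      ((mem_normalizer_iff.1 hg y).1 (mem_centralizer_singleton_iff.2 rfl))
  let e : Option P → G := fun o => o.elim 1 fun d => d.1 * y * (d.1)⁻¹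
  have heA : ∀ o, e o ∈ A t := by
    rintro (_ | d)
    · exact one_mem _
    · exact c.conj_mem_A (hPM d d.2) hyA
  let F : Option P × Z → A t := fun w => ⟨e w.1 * w.2.1, mul_mem (heA _) w.2.2.1⟩
  have hZc : ∀ z : Z, ∀ a ∈ A t, Commute a z.1 := by
    intro z a ha
    by_cases hz : z.1 = 1
    · rw [hz]; exact Commute.one_right a
    · exact c.invZ _ z.2.1 (Invol.orderOf_two_iff.mpr ⟨z.2.2, hz⟩) a ha
  have hFsq : ∀ w, (F w).1 * (F w).1 = e w.1 * e w.1 := fun w => by
    show e w.1 * w.2.1 * (e w.1 * w.2.1) = _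
    rw [mul_assoc, ← mul_assoc w.2.1, ← (hZc w.2 _ (heA w.1)).eq, mul_assoc (e w.1) w.2.1, w.2.2.2, mul_one]
  have hev : ∀ d : P, e (some d) * e (some d) = d.1 * v * (d.1)⁻¹ := fun d => by
    show d.1 * y * (d.1)⁻¹ * (d.1 * y * (d.1)⁻¹) = _
    rw [hv]; group
  have hF : Function.Injective F := by
    rintro ⟨o, z⟩ ⟨o', z'⟩ hw
    have hs : e o * e o = e o' * e o' := by rw [← hFsq (o, z), ← hFsq (o', z'), hw]
    have hv1 := Invol.ne_one_of_orderOf_two hv2
    obtain rfl : o = o' := by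
      rcases o with _ | d <;> rcases o' with _ | d'
      · rfl
      · rw [hev] at hs
        exact absurd (conj_eq_one_iff.mp (hs.symm.trans (mul_one 1))) hv1
      · rw [hev] at hs
        exact absurd (conj_eq_one_iff.mp (hs.trans (mul_one 1))) hv1
      · rw [hev, hev] at hs
        have hc : Commute ((d'.1)⁻¹ * d.1) v := by
          show (d'.1)⁻¹ * d.1 * v = v * ((d'.1)⁻¹ * d.1)
          calc (d'.1)⁻¹ * d.1 * v = (d'.1)⁻¹ * (d.1 * v * (d.1)⁻¹) * d.1 := by group
            _ = v * ((d'.1)⁻¹ * d.1) := by rw [hs]; group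
        have := c.P0_inter_A hy₀ (mul_mem (inv_mem d'.2) d.2) (c.cent v _ hvA hv1 hc)
        exact congrArg some (Subtype.ext (inv_mul_eq_one.mp this).symm)
    exact Prod.ext rfl (Subtype.ext (mul_left_cancel (congrArg Subtype.val hw)))
  have hFbij : Function.Bijective F := (Nat.bijective_iff_injective_and_card F).mpr ⟨hF, by
    rw [Nat.card_prod, Finite.card_option, hZ, (c.base hy₀).1, ← hpk, hnQ]
    show (hh + 1) * (hh + 1) = Q ^ 2
    rw [hh']; ring⟩
  have hyc : ∀ a ∈ A t, Commute a y := by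
    intro a ha
    obtain ⟨⟨o, z⟩, hw⟩ := hFbij.2 ⟨a, ha⟩
    rw [show a = e o * z.1 from (congrArg Subtype.val hw).symm]
    refine Commute.mul_left ?_ (hZc z y hyA).symm
    rcases o with _ | d
    · exact Commute.one_left y
    · exact hconjy d.1 d.2
  refine hx₁₂ ?_
  obtain ⟨⟨o, z⟩, hw⟩ := hFbij.2 ⟨x₁, hx₁⟩
  rw [show x₁ = e o * z.1 from (congrArg Subtype.val hw).symm]
  refine Commute.mul_left ?_ (hZc z x₂ hx₂).symm
  rcases o with _ | d
  · exact Commute.one_left x₂
  · have h1 := (hyc _ (c.conj_mem_A (inv_mem (hPM d.1 d.2)) hx₂)).symm.map (MulAut.conj d.1)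
    show Commute (d.1 * y * (d.1)⁻¹) x₂
    simpa [mul_assoc] using h1

/-- A minimal normal subgroup is simple and non-abelian, and contains commuting involutions. -/
theorem TIC.exists_simple (h : TIC G) (hF : Cfsg.fittingSubgroup G = ⊥) [Nontrivial G] :
    ∃ N : Subgroup G, N.Normal ∧ IsSimpleGroup N ∧ ¬ IsMulCommutative N := by
  obtain ⟨N, hNn, hN1, -, hNmin⟩ := Grp.exists_minimal_normal_le (G := G) (N := ⊤) top_ne_bot
  haveI := hNn
  haveI : Nontrivial N := (nontrivial_iff_ne_bot N).2 hN1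
  have hnab : ¬ IsMulCommutative N := fun hc => hN1 (le_bot_iff.1 (hF ▸ Grp.le_fittingSubgroup hNn
    (open scoped IsMulCommutative in CommGroup.isNilpotent (G := N))))
  have hFN : Cfsg.fittingSubgroup N = ⊥ := by
    set F := Cfsg.fittingSubgroup N
    haveI : F.Normal := Grp.fittingSubgroup_isNormal
    haveI : Group.IsNilpotent F := Grp.fittingSubgroup_isNilpotent
    have hinv : ∀ g : G, ∀ x ∈ F, MulAut.conjNormal (H := N) g x ∈ F := by
      intro g x hx
      exact Grp.le_fittingSubgroup (N := F.map (MulAut.conjNormal (H := N) g).toMonoidHom)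
        (Subgroup.Normal.map inferInstance _ (MulAut.conjNormal (H := N) g).surjective)
        (Grp.isNilpotent_map inferInstance _) ⟨x, hx, rfl⟩
    have hn : (F.map N.subtype).Normal := ⟨by
      rintro _ ⟨x, hx, rfl⟩ g
      exact ⟨_, hinv g x hx, MulAut.conjNormal_apply g x⟩⟩
    have := Grp.le_fittingSubgroup hn (Grp.isNilpotent_map inferInstance _)
    rw [hF, le_bot_iff, map_eq_bot_iff_of_injective _ N.subtype_injective] at this
    exact this
  obtain ⟨K, hKn, hK1, -, hKmin⟩ := Grp.exists_minimal_normal_le (G := N) (N := ⊤) top_ne_bot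
  haveI := hKn
  have hinv : ∀ g : G, K.map (MulAut.conjNormal (H := N) g).toMonoidHom = K := by
    intro g
    set φ := (MulAut.conjNormal (H := N) g)
    set L := K.map φ.toMonoidHom with hL
    haveI : L.Normal := Subgroup.Normal.map inferInstance _ φ.surjective
    have hcard : Nat.card L = Nat.card K := card_map_of_injective φ.injective
    rcases hKmin (K ⊓ L) inferInstance inf_le_left with hb | hb
    · exfalso
      obtain ⟨k, hk, hk1⟩ := K.bot_or_exists_ne_one.resolve_left hK1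
      have hLn : Group.IsNilpotent L := Grp.isNilpotent_of_le
        (fun l hl => mem_centralizer_singleton_iff.2
          (Subgroup.commute_of_normal_of_disjoint K L inferInstance inferInstance (disjoint_iff.2 hb) k l hk hl).symm.eq)
        ((h.subgroup N).isCN k hk1)
      have := Grp.le_fittingSubgroup (N := L) inferInstance hLn
      rw [hFN, le_bot_iff] at this
      rw [this, card_bot] at hcard
      exact hK1 (card_eq_one.1 hcard.symm)
    · exact (eq_of_le_of_card_ge (inf_eq_left.1 hb) hcard.le).symm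
  have hKtop : K = ⊤ := by
    have hn : (K.map N.subtype).Normal := ⟨by
      rintro _ ⟨x, hx, rfl⟩ g
      exact ⟨MulAut.conjNormal (H := N) g x, (hinv g).le ⟨x, hx, rfl⟩, MulAut.conjNormal_apply g x⟩⟩
    rcases hNmin _ hn (map_subtype_le _) with e | e
    · rw [map_eq_bot_iff_of_injective _ N.subtype_injective] at e
      exact absurd e hK1
    · refine map_injective N.subtype_injective ?_
      rw [e, ← MonoidHom.range_eq_map, range_subtype]
  exact ⟨N, hNn, { eq_bot_or_eq_top_of_normal := fun H hH => hKtop ▸ hKmin H hH (hKtop ▸ le_top) }, hnab⟩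

/-- Trivial Fitting subgroup gives `PSL(2, 2^n)`. -/
theorem TIC.iso_psl (h : TIC G) (hF : Cfsg.fittingSubgroup G = ⊥) [Nontrivial G] :
    ∃ n : ℕ, 2 ≤ n ∧
      Nonempty (G ≃* Matrix.ProjectiveSpecialLinearGroup (Fin 2) (GaloisField 2 n)) := by
  classical
  haveI : Fact (Nat.Prime 2) := ⟨Nat.prime_two⟩
  obtain ⟨N, hNn, hNs, hNa⟩ := h.exists_simple hF
  haveI := hNn
  haveI := hNs
  obtain ⟨E, hE⟩ := S0204.result (G := N) fun hc => hNa hc.isMulCommutative
  haveI := hE
  have hE2 : ∀ a : E, a ≠ 1 → orderOf ((a : N) : G) = 2 := fun a ha => by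
    rw [orderOf_coe, orderOf_coe]
    exact orderOf_eq_prime (by rw [← IsKleinFour.exponent_two (G := E)]; exact Monoid.pow_exponent_eq_one a) ha
  obtain ⟨a, b, ha, hb, hab⟩ : ∃ a b : E, a ≠ 1 ∧ b ≠ 1 ∧ a ≠ b := by
    haveI : Nontrivial E := Finite.one_lt_card_iff_nontrivial.mp (by rw [IsKleinFour.card_four]; norm_num)
    obtain ⟨a, ha⟩ := exists_ne (1 : E)
    haveI := Fintype.ofFinite E
    obtain ⟨b, -, hb⟩ := Finset.exists_mem_notMem_of_card_lt_card (s := ({1, a} : Finset E)) (t := Finset.univ)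
      (by rw [Finset.card_pair ha.symm, Finset.card_univ, ← Nat.card_eq_fintype_card, IsKleinFour.card_four]; norm_num)
    simp only [Finset.mem_insert, Finset.mem_singleton, not_or] at hb
    exact ⟨a, b, ha, hb.1, fun e => hb.2 e.symm⟩
  have hab' : Commute a b := (IsKleinFour.isMulCommutative (G := E)).is_comm.comm a b
  -- a central involution of a Sylow subgroup lying in `N`
  obtain ⟨S, hS⟩ := (IsPGroup.of_card (n := 1) (by rw [Nat.card_zpowers, hE2 a ha, pow_one]) :
    IsPGroup 2 (zpowers ((a : N) : G))).exists_le_sylow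
  obtain ⟨w, hw, hw1, hwc⟩ := CN.exists_center_mem S.isPGroup'.isNilpotent
    (M := (S : Subgroup G) ⊓ N) inf_le_left
    (fun r hr => mem_normalizer_fintype fun d hd =>
      ⟨(S : Subgroup G).mul_mem ((S : Subgroup G).mul_mem hr hd.1) ((S : Subgroup G).inv_mem hr), hNn.conj_mem d hd.2 r⟩)
    (fun e => by
      have h1 : ((a : N) : G) ∈ (S : Subgroup G) ⊓ N := ⟨hS (mem_zpowers _), (a : N).2⟩
      rw [e, mem_bot] at h1
      exact Invol.ne_one_of_orderOf_two (hE2 a ha) h1)
  obtain ⟨e, he⟩ := IsPGroup.iff_orderOf.1 S.isPGroup' ⟨w, hw.1⟩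
  rw [orderOf_mk] at he
  set t := w ^ (orderOf w / 2) with htdef
  have ht : orderOf t = 2 := orderOf_pow_orderOf_div (orderOf_pos w).ne' (by
    rw [he]
    refine dvd_pow_self 2 fun e0 => hw1 (orderOf_eq_one_iff.mp ?_)
    rw [he, e0, pow_zero])
  have htN : t ∈ N := pow_mem hw.2 _
  have hS' : ∀ s ∈ (S : Subgroup G), Commute s t := fun s hs => (hwc s hs).symm.pow_right _
  have hija : Commute ((a : N) : G) ((b : N) : G) := (hab'.map E.subtype).map N.subtype
  have hne : ((a : N) : G) ≠ ((b : N) : G) := fun e' => hab (Subtype.ext (Subtype.ext e'))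
  have c := h.cfg hF S ht hS' (hE2 a ha) (hE2 b hb) hija hne
  -- the configuration in `N`
  set tN : N := ⟨t, htN⟩
  have htN2 : orderOf tN = 2 := by rw [← orderOf_coe]; exact ht
  have hFN : Cfsg.fittingSubgroup N = ⊥ := by
    haveI : (Cfsg.fittingSubgroup N).Normal := Grp.fittingSubgroup_isNormal
    rcases IsSimpleGroup.eq_bot_or_eq_top_of_normal (Cfsg.fittingSubgroup N) inferInstance with e' | e'
    · exact e'
    · exfalso
      have hn := Grp.fittingSubgroup_isNilpotent (G := N)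
      rw [e'] at hn
      haveI := Group.nilpotent_of_mulEquiv (Subgroup.topEquiv (G := N))
      exact hNa ⟨⟨fun p q => IsSimpleGroup.comm_iff_isSolvable.mpr inferInstance p q⟩⟩
  obtain ⟨SN, hSN⟩ : ∃ SN : Sylow 2 N, ∀ s ∈ (SN : Subgroup N), Commute s tN := by
    obtain ⟨R⟩ : Nonempty (Sylow 2 N) := inferInstance
    have hR : IsPGroup 2 ((R : Subgroup N).map N.subtype) := R.isPGroup'.map _
    obtain ⟨R', hR'⟩ := hR.exists_le_sylow
    obtain ⟨g, hg⟩ := MulAction.exists_smul_eq G R' S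
    refine ⟨(MulAut.conjNormal (H := N) g) • R, fun s hs => Subtype.ext ?_⟩
    have h1 : ((MulAut.conjNormal (H := N) g)⁻¹ • s : N) ∈ (R : Subgroup N) :=
      Subgroup.mem_pointwise_smul_iff_inv_smul_mem.mp hs
    have h2 : g⁻¹ * (s : G) * g ∈ (R' : Subgroup G) := hR' ⟨_, h1, by
      show (((MulAut.conjNormal (H := N) g)⁻¹ s : N) : G) = _
      rw [← map_inv, MulAut.conjNormal_apply, inv_inv]⟩
    have h3 : (s : G) ∈ (S : Subgroup G) := by
      rw [← hg, Sylow.coe_subgroup_smul, Subgroup.mem_pointwise_smul_iff_inv_smul_mem]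
      simpa [MulAut.smul_def, mul_assoc] using h2
    exact (hS' _ h3).eq
  have cN := (h.subgroup N).cfg hFN SN htN2 hSN (i := (a : N)) (j := (b : N))
    (by rw [← orderOf_coe]; exact hE2 a ha) (by rw [← orderOf_coe]; exact hE2 b hb) (hab'.map E.subtype)
    (fun e' => hab (Subtype.ext e'))
  have hcomm := cN.comm_of_simple (h.subgroup N)
  -- equal numbers of points
  have hM : ∀ m : N, m ∈ M tN ↔ (m : G) ∈ M t := by
    intro m
    refine ⟨fun hm => ?_, fun hm => ?_⟩
    · refine c.tiA _ t c.t_mem c.ht1 ?_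
      exact mem_A.mpr ((mem_A.mp (cN.conj_mem_A hm cN.t_mem)).map N.subtype)
    · refine cN.tiA _ tN cN.t_mem cN.ht1 (mem_A.mpr (Subtype.ext ?_))
      exact (mem_A.mp (c.conj_mem_A hm c.t_mem)).eq
  obtain ⟨y, hy⟩ := c.exists_ne
  have hmove : ∃ n ∈ N, n • Cfg.x0 t ≠ Cfg.x0 t := by
    by_contra hno
    push Not at hno
    obtain ⟨m, hm⟩ : ∃ m : N, m ∉ M tN := by
      by_contra hno'
      push Not at hno'
      exact cN.ne_top (eq_top_iff.mpr fun m _ => hno' m)
    exact hm ((hM m).mpr (Cfg.smul_x0_iff.mp (hno _ m.2)))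
  obtain ⟨n, hn, hnx⟩ := hmove
  have htrans : ∀ z : G ⧸ M t, ∃ m : N, (m : G) • Cfg.x0 t = z := by
    intro z
    by_cases hz : z = Cfg.x0 t
    · exact ⟨1, by rw [hz, OneMemClass.coe_one, one_smul]⟩
    obtain ⟨g, hg, hgz⟩ := c.A_trans hnx hz
    refine ⟨⟨g * n * g⁻¹, hNn.conj_mem n hn g⟩, ?_⟩
    show (g * n * g⁻¹) • Cfg.x0 t = z
    rw [mul_smul, mul_smul, inv_smul_eq_iff.mpr (Cfg.smul_x0_iff.mpr (A_le_M hg)).symm, hgz]
  have hcard : Nat.card (N ⧸ M tN) = Nat.card (G ⧸ M t) := by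
    refine Nat.card_congr (Equiv.ofBijective
      (Quotient.lift (fun m : N => (m : G) • Cfg.x0 t) fun p q hpq => ?_) ⟨?_, fun z => ?_⟩)
    · have h1 := (hM _).mp (QuotientGroup.leftRel_apply.mp hpq)
      show (p : G) • Cfg.x0 t = (q : G) • Cfg.x0 t
      rw [← inv_smul_eq_iff, ← mul_smul]
      exact Cfg.smul_x0_iff.mpr (by simpa using inv_mem h1)
    · intro p q
      induction p using Quotient.inductionOn with
      | h p =>
        induction q using Quotient.inductionOn with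
        | h q =>
          intro e'
          have e1 : (p : G) • Cfg.x0 t = (q : G) • Cfg.x0 t := e'
          rw [← inv_smul_eq_iff, ← mul_smul] at e1
          exact Quotient.sound (QuotientGroup.leftRel_apply.mpr ((hM _).mpr (by simpa using inv_mem (Cfg.smul_x0_iff.mp e1))))
    · obtain ⟨m, hm⟩ := htrans z
      exact ⟨QuotientGroup.mk m, hm⟩
  rw [cN.card_points, c.card_points] at hcard
  have hle : (A tN).map N.subtype ≤ A t := by
    rintro _ ⟨x, hx, rfl⟩
    exact mem_A.mpr ((mem_A.mp hx).map N.subtype)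
  have hA : (A tN).map N.subtype = A t := eq_of_le_of_card_ge hle (by
    rw [card_map_of_injective N.subtype_injective]; omega)
  have hc : ∀ x y, x ∈ A t → y ∈ A t → Commute x y := by
    intro x y hx hy
    obtain ⟨x', hx', rfl⟩ := hA.ge hx
    obtain ⟨y', hy', rfl⟩ := hA.ge hy
    exact (hcomm x' hx' y' hy').map N.subtype
  have cF : Fus.CTSimple.Cfg t S := ⟨⟨c.ht, c.sle, hc, fun i hi hi2 x hx =>
    c.cent i x hi (Invol.ne_one_of_orderOf_two hi2) hx⟩, c.ne_top, c.one_lt, fun a ha ha1 g hg => c.fix ha ha1 hg⟩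
  obtain ⟨F, i1, i2, f, hf, hFc, ⟨φ⟩⟩ := cF.iso_psl
  haveI : Fintype (GaloisField 2 f) := Fintype.ofFinite _
  have hgc : Fintype.card (GaloisField 2 f) = 2 ^ f := by
    rw [← Nat.card_eq_fintype_card, GaloisField.card 2 f (by omega)]
  obtain ⟨ψ⟩ := Dickson.nonempty_psl_congr (FiniteField.ringEquivOfCardEq (hFc.trans hgc.symm))
  exact ⟨f, hf, ⟨φ.trans ψ⟩⟩

/-- Groups with TI centralisers. -/
theorem TIC.classify (h : TIC G) :
    Group.IsNilpotent G ∨
    (∃ H : Subgroup G, Cfsg.IsFrobeniusComplement H ∧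
      (IsCyclic H ∨ ∃ m : ℕ, Odd m ∧ Nonempty (H ≃* Multiplicative (ZMod m) × QuaternionGroup 2))) ∨
    (∃ n : ℕ, 2 ≤ n ∧ Nonempty (G ≃* Matrix.ProjectiveSpecialLinearGroup (Fin 2) (GaloisField 2 n))) := by
  by_cases hn : Group.IsNilpotent G
  · exact Or.inl hn
  haveI : Nontrivial G := by
    by_contra hno
    rw [not_nontrivial_iff_subsingleton] at hno
    exact hn Group.isNilpotent_of_subsingleton
  by_cases hF : Cfsg.fittingSubgroup G = ⊥
  · exact Or.inr (Or.inr (h.iso_psl hF))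
  · exact Or.inr (Or.inl (h.frobenius (h.kernel hF hn)))

end Cfsg.Agent.Transfer.TICent
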